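import Mathlib
import Cfsg.Agent.H953.Rcf
import Cfsg.Agent.Prune
set_option linter.all false

section
prune_inst 0x7f00000000000000000000000000000000000000000000000000000000000000000000000000000000000000000000000000000000000000000000000000000000000000000000000000000000000000003fffffffffffffffffffffffffffbeffbdffffffff

-- part: H934/MF/Blk
section
set_option linter.all false
open scoped Cfsg.Agent.FastGrp

/-!
# Block companion matrices

`exists_blk` : every square matrix over a field is similar to a block companion matrix `blk b c`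
(`b` marks the last columns of the blocks, `c` contains the entries of these columns).
-/

set_option autoImplicit false

namespace Cfsg.Agent.H934.MF

open Matrix Polynomial Cfsg.Agent.H953

universe u

variable {F : Type u} [Field F]

/-- block companion matrix -/
def blk {n : ℕ} (b : Fin n → Bool) (c : Fin n → F) : Matrix (Fin n) (Fin n) F :=
  Matrix.of fun i j => if b j = true then (if i ≤ j ∧ ∀ k, i ≤ k → k < j → b k = false then c i else 0)
    else if (i : ℕ) = j + 1 then 1 else 0

/-- positions in a composition -/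
theorem exists_pos {d n : ℕ} (m : Fin d → ℕ) (hsum : ∑ i, m i = n) :
    ∃ (e : (Σ i : Fin d, Fin (m i)) ≃ Fin n) (S : Fin d → ℕ), (∀ i k, (e ⟨i, k⟩ : ℕ) = S i + k) ∧
      ∀ i j, i < j → S i + m i ≤ S j := by
  refine ⟨finSigmaFinEquiv.trans (finCongr hsum), fun i => ∑ l : Fin i, m (Fin.castLE i.2.le l), ?_, ?_⟩
  · intro i k
    simp [finSigmaFinEquiv_apply]
  · intro i j hij
    have h1 : ∀ t : Fin d, ∑ l : Fin (t : ℕ), m (Fin.castLE t.2.le l) =
        ∑ l ∈ Finset.univ.filter (fun l : Fin d => l < t), m l := by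
      intro t
      refine Finset.sum_bij (fun l _ => Fin.castLE t.2.le l) ?_ ?_ ?_ ?_
      · intro l _
        simp only [Finset.mem_filter, Finset.mem_univ, true_and]
        exact Fin.lt_def.2 l.2
      · intro a _ b _ h
        exact Fin.ext (by simpa using congrArg Fin.val h)
      · intro l hl
        simp only [Finset.mem_filter, Finset.mem_univ, true_and] at hl
        exact ⟨⟨l, Fin.lt_def.1 hl⟩, Finset.mem_univ _, rfl⟩
      · intro l _; rfl
    simp only []
    rw [h1, h1, add_comm, ← Finset.sum_insert (a := i) (f := m) (by simp)]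
    refine Finset.sum_le_sum_of_subset ?_
    intro l hl
    simp only [Finset.mem_insert, Finset.mem_filter, Finset.mem_univ, true_and] at hl ⊢
    rcases hl with rfl | hl
    · exact hij
    · exact hl.trans hij

theorem reindex_blk {d n : ℕ} (hn : 0 < n) (m : Fin d → ℕ) (hsum : ∑ i, m i = n) (κ : ∀ i, Fin (m i) → F)
    (K : ∀ i, Matrix (Fin (m i)) (Fin (m i)) F)
    (hK : ∀ i j k, K i j k = if (k : ℕ) + 1 = m i then κ i j else if (j : ℕ) = k + 1 then 1 else 0) :
    ∃ (e : (Σ i : Fin d, Fin (m i)) ≃ Fin n) (b : Fin n → Bool) (c : Fin n → F),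
      b ⟨n - 1, by omega⟩ = true ∧ Matrix.reindex e e (Matrix.blockDiagonal' K) = blk b c := by
  classical
  obtain ⟨e, S, he, hS⟩ := exists_pos m hsum
  obtain ⟨bs, hbs⟩ : ∃ bs : (Σ i : Fin d, Fin (m i)) → Bool, ∀ i k, bs ⟨i, k⟩ = decide ((k : ℕ) + 1 = m i) :=
    ⟨fun x => decide ((x.2 : ℕ) + 1 = m x.1), fun _ _ => rfl⟩
  obtain ⟨ks, hks⟩ : ∃ ks : (Σ i : Fin d, Fin (m i)) → F, ∀ i k, ks ⟨i, k⟩ = κ i k :=
    ⟨fun x => κ x.1 x.2, fun _ _ => rfl⟩
  refine ⟨e, fun s => bs (e.symm s), fun s => ks (e.symm s), ?_, ?_⟩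
  · obtain ⟨⟨i, k⟩, hik⟩ := e.surjective ⟨n - 1, by omega⟩
    simp only [← hik, Equiv.symm_apply_apply]
    rw [hbs, decide_eq_true_iff]
    by_contra hne
    have h1 : (k : ℕ) + 1 < m i := by have := k.2; omega
    have h2 := he i ⟨k + 1, h1⟩
    have h3 := he i k
    rw [hik] at h3
    simp only at h2 h3
    have h4 := (e ⟨i, ⟨k + 1, h1⟩⟩).2
    omega
  · ext r s
    obtain ⟨⟨i', k'⟩, rfl⟩ := e.surjective r
    obtain ⟨⟨i, k⟩, rfl⟩ := e.surjective s
    rw [Matrix.reindex_apply, Matrix.submatrix_apply, Equiv.symm_apply_apply, Equiv.symm_apply_apply, blk,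
      Matrix.of_apply]
    simp only [Equiv.symm_apply_apply]
    rw [hks]
    have hb0 : bs ⟨i, k⟩ = true ↔ (k : ℕ) + 1 = m i := by rw [hbs, decide_eq_true_iff]
    have hr := he i' k'
    have hs := he i k
    by_cases hlast : (k : ℕ) + 1 = m i
    · rw [if_pos (hb0.2 hlast)]
      rcases lt_trichotomy i' i with hii | hii | hii
      · rw [Matrix.blockDiagonal'_apply_ne _ _ _ hii.ne, if_neg]
        rintro ⟨-, h2⟩
        have h3 : m i' - 1 < m i' := by have := k'.2; omega
        have h4 := he i' ⟨m i' - 1, h3⟩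
        have h5 := hS i' i hii
        have h6 := k'.2
        have h7 := h2 (e ⟨i', ⟨m i' - 1, h3⟩⟩) (Fin.le_def.2 (by rw [h4, hr]; simp only; omega))
          (Fin.lt_def.2 (by rw [h4, hs]; simp only; omega))
        rw [Equiv.symm_apply_apply, hbs, decide_eq_false_iff_not] at h7
        apply h7
        simp only
        omega
      · subst hii
        rw [Matrix.blockDiagonal'_apply_eq, hK, if_pos hlast, if_pos]
        refine ⟨Fin.le_def.2 (by rw [hr, hs]; have := k'.2; omega), ?_⟩
        intro x h1 h2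
        obtain ⟨⟨i'', k''⟩, rfl⟩ := e.surjective x
        rw [Equiv.symm_apply_apply, hbs, decide_eq_false_iff_not]
        rw [Fin.le_def, hr, he] at h1
        rw [Fin.lt_def, hs, he] at h2
        have h3 := k''.2
        rcases lt_trichotomy i'' i' with h | h | h
        · have := hS _ _ h; omega
        · subst h; omega
        · have := hS _ _ h; omega
      · rw [Matrix.blockDiagonal'_apply_ne _ _ _ hii.ne', if_neg]
        rintro ⟨h1, -⟩
        rw [Fin.le_def, hr, hs] at h1
        have h5 := hS i i' hii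
        have := k.2
        omega
    · rw [if_neg (fun h => hlast (hb0.1 h))]
      have hk1 : (k : ℕ) + 1 < m i := by have := k.2; omega
      have h2 := he i ⟨k + 1, hk1⟩
      simp only at h2
      by_cases hii : i' = i
      · subst hii
        rw [Matrix.blockDiagonal'_apply_eq, hK, if_neg hlast, hr, hs]
        by_cases h3 : (k' : ℕ) = k + 1
        · rw [if_pos h3, if_pos (by omega)]
        · rw [if_neg h3, if_neg (by omega)]
      · rw [Matrix.blockDiagonal'_apply_ne _ _ _ hii, if_neg]
        intro h3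
        have h4 : e ⟨i', k'⟩ = e ⟨i, ⟨k + 1, hk1⟩⟩ := Fin.ext (by rw [h3, h2, hs]; omega)
        exact hii (congrArg Sigma.fst (e.injective h4))

/-- **Every matrix is similar to a block companion matrix.** -/
theorem exists_blk {n : ℕ} (hn : 0 < n) (A : Matrix (Fin n) (Fin n) F) :
    ∃ (b : Fin n → Bool) (c : Fin n → F) (P : Matrix (Fin n) (Fin n) F), b ⟨n - 1, by omega⟩ = true ∧
      P.det ≠ 0 ∧ A * P = P * blk b c := by
  classical
  obtain ⟨d, g, e₀, P, -, -, hP⟩ := exists_rcf A
  have hsum : ∑ i, (g i).natDegree = n := by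
    have h1 := Fintype.card_congr e₀
    rw [Fintype.card_sigma, Fintype.card_fin] at h1
    rw [← h1]
    exact Finset.sum_congr rfl fun i _ => (Fintype.card_fin _).symm
  obtain ⟨e, b, c, hb, hbc⟩ := reindex_blk hn (fun i => (g i).natDegree) hsum (fun i j => -(g i).coeff j)
    (fun i => H953.comp (g i)) (fun i j k => rfl)
  obtain ⟨K, hK⟩ : ∃ K, K = Matrix.blockDiagonal' fun i => H953.comp (g i) := ⟨_, rfl⟩
  rw [← hK] at hP hbc
  refine ⟨b, c, (P : Matrix (Fin n) (Fin n) F).submatrix id (e.symm.trans e₀), hb, ?_, ?_⟩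
  · rw [Matrix.det_permute']
    refine mul_ne_zero ?_ ((Matrix.isUnit_iff_isUnit_det _).1 P.isUnit).ne_zero
    rcases Int.units_eq_one_or (Equiv.Perm.sign (e.symm.trans e₀)) with h | h <;> rw [h] <;> simp
  · rw [← hbc]
    have h1 := congrArg (fun M : Matrix (Fin n) (Fin n) F => M.submatrix id (e.symm.trans e₀)) hP
    have h2 : (A * (P : Matrix (Fin n) (Fin n) F)).submatrix id (e.symm.trans e₀) =
        A * (P : Matrix (Fin n) (Fin n) F).submatrix id (e.symm.trans e₀) := rfl
    have h3 : ((P : Matrix (Fin n) (Fin n) F) * Matrix.reindex e₀ e₀ K).submatrix id (e.symm.trans e₀) =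
        (P : Matrix (Fin n) (Fin n) F).submatrix id (e.symm.trans e₀) * Matrix.reindex e e K := by
      rw [← Matrix.submatrix_mul_equiv _ _ id (e.symm.trans e₀) (e.symm.trans e₀)]
      congr 1
      ext i j
      simp
    rw [← h2, ← h3, hP]

end Cfsg.Agent.H934.MF

private theorem dce_f80cf4bd74f3 : _root_.True := by
  try have : _root_.True := by simp only [_root_.Cfsg.Agent.H934.MF.blk.eq_1]
  exact _root_.True.intro
end

-- part: H934/MF/Poly
section
set_option linter.all false
open scoped Cfsg.Agent.FastGrp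

/-!
# Polynomial lemmas

* `charpoly_of_vec` : a matrix has the irreducible characteristic polynomial `f` as soon as `v f(X) = 0` for one
  nonzero row vector `v`;
* `irr_of_pow` : irreducibility from the multiplicative order of the root;
* `toP` : polynomials from lists of coefficients.
-/

set_option autoImplicit false

namespace Cfsg.Agent.H934.MF

open Matrix Polynomial

theorem charpoly_of_vec {F : Type*} [Field F] {n : ℕ} {A : Matrix (Fin n) (Fin n) F} {f : F[X]}
    (hf : Irreducible f) (hm : f.Monic) (hd : f.natDegree = n) {v : Fin n → F} (hv : v ≠ 0)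
    (h : v ᵥ* (aeval A f) = 0) : A.charpoly = f := by
  have h1 : f ∣ A.charpoly := by
    by_contra hcon
    obtain ⟨a, b, hab⟩ := (hf.coprime_iff_not_dvd).2 hcon
    apply hv
    have h2 : aeval A f * aeval A a = 1 := by
      have h3 := congrArg (aeval A) hab
      rw [map_add, map_mul, map_mul, Matrix.aeval_self_charpoly, mul_zero, add_zero, map_one] at h3
      rw [← h3, ← map_mul, ← map_mul, mul_comm]
    have h4 := congrArg (fun w => w ᵥ* (aeval A a)) h
    simp only [Matrix.vecMul_vecMul, h2, Matrix.vecMul_one, Matrix.zero_vecMul] at h4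
    exact h4
  refine Polynomial.eq_of_monic_of_dvd_of_natDegree_le hm (Matrix.charpoly_monic A) h1 ?_
  rw [Matrix.charpoly_natDegree_eq_dim, Fintype.card_fin, hd]

theorem irr_of_pow {F : Type*} [Field F] [Fintype F] {f : F[X]} (hm : f.Monic) {n N e : ℕ} (hd : f.natDegree = n)
    (hn : 0 < n) (hN : 0 < N) (h1 : f ∣ X ^ N - 1) (h2 : IsCoprime f (X ^ e - 1))
    (h3 : ∀ m, 1 ≤ m → m ≤ n / 2 → Nat.gcd N (Fintype.card F ^ m - 1) ∣ e) : Irreducible f := by
  classical
  by_contra hirr
  have hne : f ≠ 1 := by
    rintro rfl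
    rw [natDegree_one] at hd
    omega
  obtain ⟨g, hg0, hgn, hgf⟩ : ∃ g : F[X], 0 < g.natDegree ∧ g.natDegree ≤ n / 2 ∧ g ∣ f := by
    rw [hm.irreducible_iff_natDegree'] at hirr
    push Not at hirr
    obtain ⟨u, g, -, -, hug, hg⟩ := hirr hne
    rw [Finset.mem_Ioc, hd] at hg
    exact ⟨g, hg.1, hg.2, ⟨u, by rw [mul_comm, hug]⟩⟩
  have hf0 : f ≠ 0 := hm.ne_zero
  have hg0' : g ≠ 0 := by
    rintro rfl
    rw [natDegree_zero] at hg0
    exact lt_irrefl _ hg0
  have hgu : ¬ IsUnit g := fun h => by
    have := natDegree_eq_zero_of_isUnit h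
    omega
  obtain ⟨p, hp, hpg⟩ := WfDvdMonoid.exists_irreducible_factor hgu hg0'
  have hpd : p.natDegree ≤ n / 2 := (natDegree_le_of_dvd hpg hg0').trans hgn
  have hp1 : 1 ≤ p.natDegree := hp.natDegree_pos
  have hpf : p ∣ f := hpg.trans hgf
  haveI : Fact (Irreducible p) := ⟨hp⟩
  haveI : Module.Finite F (AdjoinRoot p) := (AdjoinRoot.powerBasis hp.ne_zero).finite
  haveI : Finite (AdjoinRoot p) := Module.finite_of_finite F
  haveI : Fintype (AdjoinRoot p) := Fintype.ofFinite _
  have hcard : Fintype.card (AdjoinRoot p) = Fintype.card F ^ p.natDegree := by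
    rw [Module.card_eq_pow_finrank (K := F) (V := AdjoinRoot p),
      (AdjoinRoot.powerBasis hp.ne_zero).finrank, AdjoinRoot.powerBasis_dim]
  have key : ∀ k : ℕ, p ∣ X ^ k - 1 ↔ (AdjoinRoot.root p) ^ k = 1 := by
    intro k
    rw [← AdjoinRoot.mk_eq_zero, map_sub, map_pow, AdjoinRoot.mk_X, map_one, sub_eq_zero]
  have hN1 : (AdjoinRoot.root p) ^ N = 1 := (key N).1 (hpf.trans h1)
  have hr0 : AdjoinRoot.root p ≠ 0 := by
    intro h0
    rw [h0, zero_pow hN.ne'] at hN1
    exact zero_ne_one hN1
  have h4 := FiniteField.pow_card_sub_one_eq_one _ hr0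
  rw [hcard] at h4
  have h5 : (AdjoinRoot.root p) ^ e = 1 :=
    orderOf_dvd_iff_pow_eq_one.1 ((Nat.dvd_gcd (orderOf_dvd_of_pow_eq_one hN1)
      (orderOf_dvd_of_pow_eq_one h4)).trans (h3 _ hp1 hpd))
  exact hp.not_isUnit (h2.isUnit_of_dvd' hpf ((key e).2 h5))

section Lists

variable {R : Type*} [CommRing R]

/-- polynomial from the list of its coefficients -/
noncomputable def toP : List R → R[X]
  | [] => 0
  | a :: l => C a + X * toP l

/-- sum of lists -/
def addL : List R → List R → List R
  | [], l => l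
  | a :: l, [] => a :: l
  | a :: l, b :: m => (a + b) :: addL l m

/-- product of lists -/
def mulL : List R → List R → List R
  | [], _ => []
  | a :: l, m => addL (m.map (a * ·)) (0 :: mulL l m)

theorem toP_addL : ∀ l m : List R, toP (addL l m) = toP l + toP m
  | [], m => by rw [addL, toP, zero_add]
  | a :: l, [] => by rw [addL, toP, toP, add_zero]
  | a :: l, b :: m => by rw [addL, toP, toP_addL l m, toP, toP, C_add]; ring

theorem toP_map (a : R) : ∀ m : List R, toP (m.map (a * ·)) = C a * toP m
  | [] => by rw [List.map_nil, toP, mul_zero]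
  | b :: m => by rw [List.map_cons, toP, toP_map a m, toP, C_mul]; ring

theorem toP_mulL : ∀ l m : List R, toP (mulL l m) = toP l * toP m
  | [], m => by rw [mulL, toP, zero_mul]
  | a :: l, m => by
    rw [mulL, toP_addL, toP_map, toP, toP_mulL l m, toP, C_0]; ring

theorem coeff_toP : ∀ (l : List R) (k : ℕ), (toP l).coeff k = l.getD k 0
  | [], k => by rw [toP, coeff_zero, List.getD_nil]
  | a :: l, 0 => by rw [toP, coeff_add, coeff_C_zero, coeff_X_mul_zero, add_zero, List.getD_cons_zero]
  | a :: l, k + 1 => by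
    rw [toP, coeff_add, coeff_C_succ, coeff_X_mul, zero_add, coeff_toP l k, List.getD_cons_succ]

/-- `X ^ k * p` -/
theorem toP_replicate (k : ℕ) (l : List R) : toP (List.replicate k 0 ++ l) = X ^ k * toP l := by
  induction k with
  | zero => simp
  | succ k ih => rw [List.replicate_succ, List.cons_append, toP, ih, C_0]; ring

/-- the list of `X ^ k - 1` -/
def xk (k : ℕ) : List R := addL [-1] (List.replicate k 0 ++ [1])

theorem toP_xk (k : ℕ) : toP (xk k : List R) = X ^ k - 1 := by
  rw [xk, toP_addL, toP_replicate, toP, toP, toP, toP, C_neg, C_1]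
  ring

theorem toP_zero {l : List R} (h : ∀ x ∈ l, x = 0) : toP l = 0 := by
  induction l with
  | nil => rfl
  | cons a l ih =>
    rw [toP, h a (List.mem_cons_self), C_0, zero_add, ih fun x hx => h x (List.mem_cons_of_mem _ hx), mul_zero]

/-- equality of polynomials -/
def eqL [DecidableEq R] (l m : List R) : Bool := (addL l (m.map ((-1) * ·))).all fun x => decide (x = 0)

theorem toP_eq [DecidableEq R] {l m : List R} (h : eqL l m = true) : toP l = toP m := by
  have h1 : ∀ x ∈ addL l (m.map ((-1) * ·)), x = 0 := by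
    intro x hx
    have := List.all_eq_true.1 h x hx
    exact of_decide_eq_true this
  have h2 := toP_zero h1
  rw [toP_addL, toP_map, C_neg, C_1] at h2
  linear_combination h2

/-- the monic polynomial with lower coefficients `l` -/
noncomputable def mono (l : List R) : R[X] := toP (l ++ [1])

theorem toP_append (l m : List R) : toP (l ++ m) = toP l + X ^ l.length * toP m := by
  induction l with
  | nil => simp [toP]
  | cons a l ih => rw [List.cons_append, toP, ih, toP, List.length_cons]; ring

theorem mono_eq (l : List R) : mono l = X ^ l.length + toP l := by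
  rw [mono, toP_append, toP, toP, C_1]
  ring

theorem degree_toP_lt (l : List R) : (toP l).degree < l.length := by
  rw [Polynomial.degree_lt_iff_coeff_zero]
  intro k hk
  rw [coeff_toP, List.getD_eq_default _ _ hk]

theorem mono_monic (l : List R) : (mono l).Monic := by
  rw [mono_eq]
  exact monic_X_pow_add (degree_toP_lt l)

theorem mono_natDegree [Nontrivial R] (l : List R) : (mono l).natDegree = l.length := by
  rw [mono_eq, Polynomial.natDegree_add_eq_left_of_degree_lt (by rw [degree_X_pow]; exact degree_toP_lt l),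
    natDegree_X_pow]

/-- kernel check of irreducibility -/
def irrCheck [DecidableEq R] (q : ℕ) (l h a b : List R) (N e : ℕ) : Bool :=
  decide (0 < l.length ∧ 0 < N) && eqL (mulL (l ++ [1]) h) (xk N) &&
    eqL (addL (mulL a (l ++ [1])) (mulL b (xk e))) [1] &&
    (List.range (l.length / 2)).all fun m => decide (Nat.gcd N (q ^ (m + 1) - 1) ∣ e)

end Lists

theorem irr_of_check {F : Type*} [Field F] [Fintype F] [DecidableEq F] {q : ℕ} (hq : Fintype.card F = q)
    {l h a b : List F} {N e : ℕ} (hc : irrCheck q l h a b N e = true) : Irreducible (mono l) := by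
  rw [irrCheck, Bool.and_eq_true, Bool.and_eq_true, Bool.and_eq_true, decide_eq_true_iff] at hc
  obtain ⟨⟨⟨⟨hl, hN⟩, h1⟩, h2⟩, h3⟩ := hc
  have h1' := toP_eq h1
  have h2' := toP_eq h2
  rw [toP_mulL, toP_xk] at h1'
  rw [toP_addL, toP_mulL, toP_mulL, toP_xk] at h2'
  have e1 : toP ([1] : List F) = 1 := by rw [toP, toP, C_1]; ring
  rw [e1] at h2'
  refine irr_of_pow (mono_monic l) (mono_natDegree l) hl hN ⟨_, h1'.symm⟩ ⟨_, _, h2'⟩ ?_
  intro m hm1 hm2
  have h4 := List.all_eq_true.1 h3 (m - 1) (List.mem_range.2 (by omega))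
  rw [decide_eq_true_iff] at h4
  rw [hq]
  have : m - 1 + 1 = m := by omega
  rwa [this] at h4

end Cfsg.Agent.H934.MF

private theorem dce_68359bb5f597 : _root_.True := by
  try have : _root_.True := by simp only [_root_.Cfsg.Agent.H934.MF.addL.eq_2]
  try have : _root_.True := by simp only [_root_.Cfsg.Agent.H934.MF.mulL.eq_2]
  try have : _root_.True := by simp only [_root_.Cfsg.Agent.H934.MF.addL.eq_1]
  try have : _root_.True := by simp only [_root_.Cfsg.Agent.H934.MF.mulL.eq_def]
  try have : _root_.True := by simp only [_root_.Cfsg.Agent.H934.MF.toP.eq_def]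
  try have : _root_.True := by simp only [_root_.Cfsg.Agent.H934.MF.irrCheck.eq_1]
  try have : _root_.True := by simp only [_root_.Cfsg.Agent.H934.MF.toP.eq_2]
  try have : _root_.True := by simp only [_root_.Cfsg.Agent.H934.MF.toP.eq_1]
  try have : _root_.True := by simp only [_root_.Cfsg.Agent.H934.MF.mono.eq_1]
  try have : _root_.True := by simp only [_root_.Cfsg.Agent.H934.MF.mulL.eq_1]
  try have : _root_.True := by simp only [_root_.Cfsg.Agent.H934.MF.addL.eq_def]
  try have : _root_.True := by simp only [_root_.Cfsg.Agent.H934.MF.addL.eq_3]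
  try have : _root_.True := by simp only [_root_.Cfsg.Agent.H934.MF.xk.eq_1]
  exact _root_.True.intro
end
end
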